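import Cfsg.Agent.H555.TwoSp.CoThreeSeven
import Cfsg.Agent.H904.SylOne

/-!
# The normalizer of a Sylow 7-subgroup of `Co₃` (helper970)

`no_three` : no element of order 3 of `Sp₆(2)` commutes with an element of order 7; `cn7` : `|C(P)| = 42`, `|N(P)| = 252`.
-/

set_option autoImplicit false

namespace Cfsg.Agent.H970.Sep.Co3

open Subgroup Cfsg.Agent.H555.TwoSp

theorem card_mul_relIndex {G : Type*} [Group G] {H K : Subgroup G} (h : H ≤ K) :
    Nat.card H * H.relIndex K = Nat.card K := by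
  have := relIndex_mul_relIndex ⊥ H K bot_le h
  rwa [relIndex_bot_left, relIndex_bot_left] at this

section sp

open Cfsg.Agent.SporRec.TwoSp6.Sp Cfsg.Agent.H555.TwoSp.SpSeven

/-- fixed points of a map with `f³ = 1` -/
theorem card_modEq3 {α : Type*} [Finite α] {f : α → α} (hf : ∀ a, f (f (f a)) = a) :
    Nat.card α ≡ Nat.card {a // f a = a} [MOD 3] := by
  classical
  let _ : Fintype α := Fintype.ofFinite α
  have : Fact (Nat.Prime 3) := ⟨by norm_num⟩
  let F : Function.End α := f
  have h1 : F ^ 3 ^ 1 = 1 := by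
    funext a
    exact hf a
  have h2 := Equiv.Perm.card_fixedPoints_modEq h1
  rw [← Nat.card_eq_fintype_card, ← Nat.card_eq_fintype_card] at h2
  exact h2

variable {g : S} (hg : orderOf g = 7)
include hg

/-- a commuting element of order three is trivial on an invariant subgroup of order 1 or 8 -/
theorem triv3 {h : S} (hh : h * h * h = 1) (hc : g * h = h * g) (W : AddSubgroup V) (hW : ∀ w ∈ W, na g w ∈ W)
    (hW2 : ∀ w ∈ W, na h w ∈ W) (h64 : Nat.card W ≠ 64) : ∀ w ∈ W, na h w = w := by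
  have hcv : ∀ v, na g (na h v) = na h (na g v) := by
    intro v
    rw [na_apply, na_apply, na_apply, na_apply, ← act_mul, ← act_mul, hc]
  have hhv : ∀ v, na h (na h (na h v)) = v := by
    intro v
    rw [na_apply, na_apply, na_apply, ← act_mul, ← act_mul, hh, act_one]
  let W' : AddSubgroup V :=
    { carrier := {w | w ∈ W ∧ na h w = w}
      add_mem' := fun {a b} ha hb => ⟨W.add_mem ha.1 hb.1, by rw [map_add, ha.2, hb.2]⟩
      zero_mem' := ⟨W.zero_mem, map_zero _⟩
      neg_mem' := fun {a} ha => ⟨W.neg_mem ha.1, by rw [map_neg, ha.2]⟩ }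
  have hW'W : W' ≤ W := fun w hw => hw.1
  have hW'g : ∀ w ∈ W', na g w ∈ W' := fun w hw => ⟨hW w hw.1, by rw [← hcv, hw.2]⟩
  have hle : Nat.card W' ≤ Nat.card W := AddSubgroup.card_le_of_le hW'W
  have h1 := card_modEq3 (α := W) (f := fun w => ⟨na h w, hW2 w w.2⟩) (fun w => Subtype.ext (hhv w))
  have h2 : Nat.card {w : W // (⟨na h w, hW2 w w.2⟩ : W) = w} = Nat.card W' := by
    refine Nat.card_congr ⟨fun w => ⟨(w.1 : V), w.1.2, congrArg Subtype.val w.2⟩,
      fun w => ⟨⟨w.1, w.2.1⟩, Subtype.ext w.2.2⟩, fun w => rfl, fun w => rfl⟩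
  rw [h2] at h1
  have h8 : Nat.card W' = Nat.card W := by
    rcases card_inv hg W hW with h | h | h <;> rcases card_inv hg W' hW'g with h' | h' | h' <;>
      rw [h, h'] at h1 <;> rw [h, h'] <;> first
      | omega
      | (exfalso; revert h1; decide)
  have h9 : W' = W := AddSubgroup.eq_of_le_of_card_ge hW'W (by omega)
  intro w hw
  rw [← h9] at hw
  exact hw.2

/-- **No element of order three commutes with an element of order seven.** -/
theorem no_three {h : S} (hh : h * h * h = 1) (hc : g * h = h * g) : h = 1 := by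
  have hcv : ∀ v, na g (na h v) = na h (na g v) := by
    intro v
    rw [na_apply, na_apply, na_apply, na_apply, ← act_mul, ← act_mul, hc]
  have hA : ∀ w ∈ (opA g).ker, na h w = w := by
    refine triv3 hg hh hc _ (fun w hw => A_mem hg w hw) (fun w hw => ?_) (fun h64 => ?_)
    · have h1 : opA g w = 0 := hw
      change opA g (na h w) = 0
      rw [opA_apply] at h1 ⊢
      rw [hcv, hcv, hcv, ← map_add, ← map_add, h1, map_zero]
    · exact not_A hg fun v => eq_top_of_card hg h64 v
  have hB : ∀ w ∈ (opB g).ker, na h w = w := by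
    refine triv3 hg hh hc _ (fun w hw => B_mem hg w hw) (fun w hw => ?_) (fun h64 => ?_)
    · have h1 : opB g w = 0 := hw
      change opB g (na h w) = 0
      rw [opB_apply] at h1 ⊢
      rw [hcv, hcv, hcv, ← map_add, ← map_add, h1, map_zero]
    · exact not_B hg fun v => eq_top_of_card hg h64 v
  apply act_ext
  intro v
  rw [act_one]
  change na h v = v
  have h1 := bezout g v
  have h2 : na g (opA g v) ∈ (opB g).ker := B_mem hg _ (BA hg v)
  have h3 : na g (opB g v) + opB g v ∈ (opA g).ker := by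
    have h4 : opB g v ∈ (opA g).ker := AB hg v
    exact (opA g).ker.add_mem (A_mem hg _ h4) h4
  rw [h1, map_add, hB _ h2, hA _ h3]

end sp

universe u
variable {T : Type u} [Group T]

section model

open Cfsg.Agent.SporRec.TwoSp6.Sp (S)
open Cfsg.Agent.SporRec.TwoSp6.CInvol (NS)
open Cfsg.Agent.SporRec.Co3.Fusion (tC mem_cent)
open Cfsg.Agent.SporRec.Co3.Chain (G3 isCo3_G3)
open Cfsg.Agent.SporRec.Co3.Ident (Z)

theorem exists_inv_model : ∃ Z x0 : G3, Z * Z = 1 ∧ Z ≠ 1 ∧ Z * x0 = x0 * Z ∧ orderOf x0 = 7 ∧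
    Nat.card (centralizer ({Z} : Set G3)) = 2903040 ∧
    ∀ p : G3, p * Z = Z * p → p * x0 = x0 * p → orderOf p ≠ 3 := by
  have hfin := finite_G3
  obtain ⟨π, N⟩ := Cfsg.Agent.KFacts.Co3D4.exists_NS_G3
  have h7 : Fact (Nat.Prime 7) := ⟨by norm_num⟩
  have hZ1 : (Z : G3) ≠ 1 := fun h => N.z_ne (Subtype.ext h)
  have hZ2 : (Z : G3) * Z = 1 := congrArg Subtype.val N.z_sq
  have hcard : Nat.card (centralizer ({Z} : Set G3)) = 2903040 := by
    have h1 : Nat.card (centralizer ({Z} : Set G3)) = Nat.card π.ker * Nat.card S := by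
      rw [← card_mul_index π.ker, index_ker, MonoidHom.range_eq_top.2 N.surj]
      congr 1
      exact Nat.card_congr (Subgroup.topEquiv (G := S)).toEquiv
    have h2 : Nat.card π.ker = 2 := by
      rw [Nat.card_eq_two_iff]
      refine ⟨1, ⟨_, MonoidHom.mem_ker.2 N.map_z⟩, ?_, ?_⟩
      · intro h
        exact N.z_ne (congrArg Subtype.val h).symm
      · rw [Set.eq_univ_iff_forall]
        intro a
        rcases N.ker a a.2 with h | h
        · left
          exact Subtype.ext h
        · right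
          exact Subtype.ext h
    rw [h1, h2, Cfsg.Agent.SporRec.TwoSp6.Sp.card_S]
  have hd : 7 ∣ Nat.card (centralizer ({Z} : Set G3)) := by
    rw [hcard]
    norm_num
  obtain ⟨x, hx⟩ := exists_prime_orderOf_dvd_card' 7 hd
  have hxo : orderOf (x : G3) = 7 := by rw [Subgroup.orderOf_coe, hx]
  have hpx : orderOf (π x) = 7 := by
    refine orderOf_eq_prime (by rw [← map_pow, ← hx, pow_orderOf_eq_one, map_one]) ?_
    intro h
    rcases N.ker x h with h' | h'
    · rw [h', orderOf_one] at hx; omega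
    · have h3 : orderOf x = 2 := by
        rw [h']
        exact orderOf_eq_prime (by rw [pow_two]; exact N.z_sq) N.z_ne
      omega
  refine ⟨Z, x, hZ2, hZ1, (mem_centralizer_singleton_iff.1 x.2).symm, hxo, hcard, fun p hpZ hpx' hp3 => ?_⟩
  have hpm : p ∈ centralizer ({Z} : Set G3) := mem_centralizer_singleton_iff.2 hpZ
  have hcom : π x * π ⟨p, hpm⟩ = π ⟨p, hpm⟩ * π x := by
    rw [← map_mul, ← map_mul]
    exact congrArg π (Subtype.ext hpx'.symm)
  have hpp : p ^ 3 = 1 := by rw [← hp3, pow_orderOf_eq_one]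
  have hpow : π ⟨p, hpm⟩ * π ⟨p, hpm⟩ * π ⟨p, hpm⟩ = 1 := by
    rw [← map_mul, ← map_mul]
    have : (⟨p, hpm⟩ : centralizer ({Z} : Set G3)) * ⟨p, hpm⟩ * ⟨p, hpm⟩ = 1 := by
      apply Subtype.ext
      show p * p * p = 1
      rw [← hpp, pow_succ, pow_two]
    rw [this, map_one]
  have key := no_three hpx hpow hcom
  rcases N.ker _ key with h' | h'
  · have h1 : p = 1 := congrArg Subtype.val h'
    rw [h1, orderOf_one] at hp3
    omega
  · have h1 : p = Z := congrArg Subtype.val h'
    have h2 : orderOf p = 2 := by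
      rw [h1]
      exact orderOf_eq_prime (by rw [pow_two]; exact hZ2) hZ1
    omega

end model

theorem exists_inv3 (h : Cfsg.Spor.IsoCo3 T) : ∃ Z x0 : T, Z * Z = 1 ∧ Z ≠ 1 ∧ Z * x0 = x0 * Z ∧ orderOf x0 = 7 ∧
    Nat.card (centralizer ({Z} : Set T)) = 2903040 ∧
    ∀ p : T, p * Z = Z * p → p * x0 = x0 * p → orderOf p ≠ 3 := by
  have hfin := finite_co3 h
  have hfin2 := finite_G3
  obtain ⟨e0⟩ := h
  let e : T ≃* Cfsg.Agent.SporRec.Co3.Chain.G3 := e0.trans Cfsg.Agent.SporRec.Co3.Model.equivCo3.symm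
  obtain ⟨Z, x, h1, h2, h3, h4, h5, h6⟩ := exists_inv_model
  refine ⟨e.symm Z, e.symm x, ?_, ?_, ?_, ?_, ?_, ?_⟩
  · rw [← map_mul, h1, map_one]
  · intro h
    apply h2
    rw [← e.apply_symm_apply Z, h, map_one]
  · rw [← map_mul, ← map_mul, h3]
  · rw [MulEquiv.orderOf_eq, h4]
  · rw [← h5]
    have h7 := card_cent_map e (zpowers (e.symm Z))
    rw [MonoidHom.map_zpowers] at h7
    have h8 : e.toMonoidHom (e.symm Z) = Z := e.apply_symm_apply Z
    rw [h8, Cfsg.Agent.H904.SylOne.centralizer_zpowers_eq, Cfsg.Agent.H904.SylOne.centralizer_zpowers_eq] at h7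
    exact h7
  · intro p hp1 hp2
    rw [← MulEquiv.orderOf_eq e p]
    refine h6 (e p) ?_ ?_
    · have := congrArg e hp1
      rwa [map_mul, map_mul, e.apply_symm_apply] at this
    · have := congrArg e hp2
      rwa [map_mul, map_mul, e.apply_symm_apply] at this

/-- **the centralizer and the normalizer of the subgroups of order seven** -/
theorem cn7 (h : Cfsg.Spor.IsoCo3 T) (P : Subgroup T) (hP : Nat.card P = 7) :
    Nat.card (centralizer (P : Set T)) = 42 ∧ Nat.card (normalizer (P : Set T)) = 252 := by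
  have hfin := finite_co3 h
  have hcard := card_co3 h
  obtain ⟨k, m, hkm, hall⟩ := Cfsg.Agent.H555.TwoSp.cn7 h
  have h7 : Fact (Nat.Prime 7) := ⟨by norm_num⟩
  have h3p : Fact (Nat.Prime 3) := ⟨by norm_num⟩
  obtain ⟨Z, x, hZ2, hZ1, hZx, hx, hCc, hno⟩ := exists_inv3 h
  -- the centralizer of the involution
  set C : Subgroup T := centralizer ({Z} : Set T) with hC
  set R : Subgroup T := zpowers x with hR
  have hRc : Nat.card R = 7 := by rw [hR, Nat.card_zpowers, hx]
  have hRC : R ≤ C := by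
    rw [hR, zpowers_le, hC, mem_centralizer_singleton_iff]
    exact hZx.symm
  set R' : Subgroup C := R.subgroupOf C with hR'
  have hR'c : Nat.card R' = 7 := by
    rw [hR', Nat.card_congr (subgroupOfEquivOfLe hRC).toEquiv, hRc]
  obtain ⟨e, he, hN⟩ := Cfsg.Agent.H904.SylOne.card_nc (p := 7) hR'c
  obtain ⟨s, hs, hs1⟩ := Cfsg.Agent.H904.SylOne.card_normalizer_mod (p := 7) hR'c (by rw [hCc]; norm_num)
  obtain ⟨hRC1, hRN1⟩ := hall R hRc
  -- the centralizer of `R` in `C`
  have hmap : (centralizer (R' : Set C)).map C.subtype ≤ centralizer (R : Set T) := by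
    rintro _ ⟨a, ha, rfl⟩
    rw [mem_centralizer_iff]
    intro b hb
    exact congrArg Subtype.val ((mem_centralizer_iff.1 ha) (⟨b, hRC hb⟩ : C) hb)
  have hc1 : Nat.card (centralizer (R' : Set C)) ∣ 7 * k := by
    rw [← hRC1, ← card_map_of_injective C.subtype_injective]
    exact card_dvd_of_le hmap
  have hc3 : ¬ 3 ∣ Nat.card (centralizer (R' : Set C)) := by
    intro hd
    obtain ⟨y, hy⟩ := exists_prime_orderOf_dvd_card' 3 hd
    have hy1 : orderOf (((y : C) : T)) = 3 := by rw [Subgroup.orderOf_coe, Subgroup.orderOf_coe, hy]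
    refine hno ((y : C) : T) ?_ ?_ hy1
    · exact mem_centralizer_singleton_iff.1 (y : C).2
    · exact ((mem_centralizer_iff.1 y.2) (⟨x, hRC (mem_zpowers x)⟩ : C) (mem_zpowers x) |> congrArg Subtype.val).symm
  have hc7 : 7 ∣ Nat.card (centralizer (R' : Set C)) := by
    rw [← hR'c]
    have hcyc : IsCyclic R' := isCyclic_of_prime_card hR'c
    have h3 : R' ≤ centralizer (R' : Set C) := by
      intro x hx
      rw [mem_centralizer_iff]
      intro y hy
      exact congrArg Subtype.val ((IsCyclic.isMulCommutative (α := R')).is_comm.comm (⟨y, hy⟩ : R') ⟨x, hx⟩)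
    exact card_dvd_of_le h3
  have hc14 : Nat.card (centralizer (R' : Set C)) ∣ 14 := by
    have h1 : (Nat.card (centralizer (R' : Set C))).Coprime (3 ^ 4) :=
      ((Nat.Prime.coprime_iff_not_dvd (by norm_num)).2 hc3).symm.pow_right 4
    refine h1.dvd_of_dvd_mul_right (hc1.trans ?_)
    rcases hkm with ⟨rfl, -⟩ | ⟨rfl, -⟩ | ⟨rfl, -⟩ | ⟨rfl, -⟩ <;> norm_num
  rw [hCc] at hs
  set c := Nat.card (centralizer (R' : Set C)) with hcdef
  have hce : c = 14 ∧ e = 6 := by
    have h1 : c ≤ 14 := Nat.le_of_dvd (by norm_num) hc14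
    have h2 : e ≤ 6 := Nat.le_of_dvd (by norm_num) he
    obtain ⟨c', hc'⟩ := hc7
    have h3 : c' ≤ 2 := by omega
    have h4 : s % 7 = 1 := hs1
    rw [hN, hc'] at hs
    have h5 : (c' * e * (s % 7)) % 7 = 5 := by
      have h6 : c' * e * s = 414720 := by
        have h7 : 7 * (c' * e * s) = 2903040 := by rw [hs]; ring
        omega
      rw [← Nat.mul_mod_mod, Nat.mod_mod, Nat.mul_mod_mod, h6]
    rw [h4, mul_one] at h5
    have h6 : c' * e * s = 414720 := by
      have h7 : 7 * (c' * e * s) = 2903040 := by rw [hs]; ring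
      omega
    clear hs hN
    interval_cases c' <;> interval_cases e <;> omega
  obtain ⟨hc', he'⟩ := hce
  -- the normalizer of `R` in `C`, as a subgroup of `T`
  set N' : Subgroup T := (normalizer (R' : Set C)).map C.subtype with hN'
  have hN'c : Nat.card N' = 84 := by
    rw [hN', card_map_of_injective C.subtype_injective, hN, hc', he']
  have hN'le : N' ≤ normalizer (R : Set T) := by
    rintro _ ⟨a, ha, rfl⟩
    rw [mem_normalizer_iff]
    intro z
    constructor
    · intro hz
      exact (mem_normalizer_iff.1 ha (⟨z, hRC hz⟩ : C)).1 hz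
    · intro hz
      have hzC : z ∈ C := by
        have h4 := C.mul_mem (C.mul_mem (C.inv_mem a.2) (hRC hz)) a.2
        have h5 : (a : T)⁻¹ * ((C.subtype a) * z * (C.subtype a)⁻¹) * (a : T) = z := by
          show (a : T)⁻¹ * ((a : T) * z * (a : T)⁻¹) * (a : T) = z
          group
        rwa [h5] at h4
      exact (mem_normalizer_iff.1 ha (⟨z, hzC⟩ : C)).2 hz
  have hinf : Nat.card ↥(centralizer (R : Set T) ⊓ N') ≤ 14 := by
    have h1 : centralizer (R : Set T) ⊓ N' ≤ (centralizer (R' : Set C)).map C.subtype := by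
      rintro y ⟨hy1, hy2⟩
      obtain ⟨a, -, rfl⟩ := hy2
      refine ⟨a, ?_, rfl⟩
      rw [SetLike.mem_coe, mem_centralizer_iff]
      intro b hb
      exact Subtype.ext ((mem_centralizer_iff.1 hy1) (b : T) hb)
    have h2 := Subgroup.card_le_of_le h1
    rw [card_map_of_injective C.subtype_injective, ← hcdef, hc'] at h2
    exact h2
  have hrel : (centralizer (R : Set T)).relIndex N' ≤ (centralizer (R : Set T)).relIndex (normalizer (R : Set T)) :=
    relIndex_le_of_le_right hN'le (index_ne_zero_of_finite)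
  have hr1 : Nat.card ↥(centralizer (R : Set T) ⊓ N') * (centralizer (R : Set T)).relIndex N' = 84 := by
    rw [← hN'c, ← inf_relIndex_right]
    exact card_mul_relIndex inf_le_right
  have hr2 : 7 * k * (centralizer (R : Set T)).relIndex (normalizer (R : Set T)) = 7 * m := by
    rw [← hRC1, ← hRN1]
    exact card_mul_relIndex (centralizer_le_normalizer _)
  have h6 : 6 ≤ (centralizer (R : Set T)).relIndex (normalizer (R : Set T)) := by
    refine le_trans ?_ hrel
    by_contra hlt
    push Not at hlt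
    have h1 : Nat.card ↥(centralizer (R : Set T) ⊓ N') * (centralizer (R : Set T)).relIndex N' ≤ 14 * 5 :=
      Nat.mul_le_mul hinf (by omega)
    omega
  have hk6 : k = 6 ∧ m = 36 := by
    rcases hkm with ⟨rfl, rfl⟩ | ⟨rfl, rfl⟩ | ⟨rfl, rfl⟩ | ⟨rfl, rfl⟩
    · exact ⟨rfl, rfl⟩
    all_goals exfalso; omega
  obtain ⟨rfl, rfl⟩ := hk6
  obtain ⟨g1, g2⟩ := hall P hP
  exact ⟨g1, g2⟩

end Cfsg.Agent.H970.Sep.Co3
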