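import Cfsg.Agent.H970.Sep.Struct2
import Cfsg.Agent.H940.Cover

/-!
# The engine with two primes at once (helper970)

If `r`, `q` divide `|H|` (both exactly once) and `q` divides the order `s` of the simple factor belonging to `r`, then the numbers
`k`, `s`, `t` are the same for both primes. `feas2` is the Boolean test, `Ctx.feas2_of` the soundness, `CI.Good.prune` removes
impossible orders from the list of an item of the covering argument, `Ctx.over2`, `Ctx.apartJ` use it for overgroups.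
-/

set_option autoImplicit false

namespace Cfsg.Agent.H970.Sep

open Subgroup Cfsg.Agent.OrdDiv Cfsg.Agent.H940 Cfsg.Agent.H940.Eng

universe u

/-- a simple normal subgroup meets every normal subgroup trivially or is contained in it -/
theorem inf_eq_bot_or_le {Y : Type u} [Group Y] {M T : Subgroup Y} (hM : IsSimpleGroup M) (hT : T.Normal) :
    T ⊓ M = ⊥ ∨ M ≤ T := by
  rcases (hT.subgroupOf M).eq_bot_or_eq_top with h | h
  · left
    rw [← subgroupOf_map_subtype, h, Subgroup.map_bot]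
  · right
    exact subgroupOf_eq_top.1 h

/-- **uniqueness** : if the second prime divides `|M|` then the two structures are equal -/
theorem unique_pair {X : Type u} [Group X] [Finite X] {r q : ℕ} (hr : r.Prime) (hr2 : ¬ r ^ 2 ∣ Nat.card X)
    (hq2 : ¬ q ^ 2 ∣ Nat.card X) {K K' : Subgroup X} (hKn : K.Normal) (hKn' : K'.Normal) {M : Subgroup (X ⧸ K)}
    {M' : Subgroup (X ⧸ K')} (hK : ∀ T : Subgroup X, T.Normal → ¬ r ∣ Nat.card T → T ≤ K)
    (hK' : ∀ T : Subgroup X, T.Normal → ¬ q ∣ Nat.card T → T ≤ K') (hrK : ¬ r ∣ Nat.card K) (hqK : ¬ q ∣ Nat.card K')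
    (hMn : M.Normal) (hMs : IsSimpleGroup M) (hrM : r ∣ Nat.card M) (hMn' : M'.Normal) (hMs' : IsSimpleGroup M')
    (hqM' : q ∣ Nat.card M') (hqM : q ∣ Nat.card M) : Nat.card K = Nat.card K' ∧ Nat.card M = Nat.card M' := by
  have hXY : ∀ (L : Subgroup X) [L.Normal], Nat.card X = Nat.card L * Nat.card (X ⧸ L) := by
    intro L _
    rw [← index_eq_card, card_mul_index]
  have hqK1 : ¬ q ∣ Nat.card K := by
    intro h
    apply hq2
    rw [hXY K, pow_two]
    exact mul_dvd_mul h (hqM.trans (card_subgroup_dvd_card M))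
  have h1 : K ≤ K' := hK' K hKn hqK1
  -- the image of `K'`
  let f : X →* X ⧸ K := QuotientGroup.mk' K
  have hf : Function.Surjective f := QuotientGroup.mk'_surjective K
  have hker : f.ker = K := QuotientGroup.ker_mk' K
  set T : Subgroup (X ⧸ K) := K'.map f with hT
  have hTn : T.Normal := hKn'.map f hf
  have hcomap : T.comap f = K' := by
    rw [hT, comap_map_eq, hker, sup_eq_left.2 h1]
  have hTc : Nat.card K' = Nat.card K * Nat.card T := by
    rw [← hcomap]
    exact MaxCls.card_comap_quot K T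
  have hMT : T ⊓ M = ⊥ := by
    rcases inf_eq_bot_or_le hMs hTn with h | h
    · exact h
    · exfalso
      apply hqK
      rw [hTc]
      exact (hqM.trans (card_dvd_of_le h)).mul_left _
  have hrK' : ¬ r ∣ Nat.card K' := by
    intro h
    rw [hTc] at h
    have hrT : r ∣ Nat.card T := (hr.dvd_mul.1 h).resolve_left hrK
    have h3 := card_sup_mul_card_inf T M
    rw [hMT, card_bot, mul_one] at h3
    apply hr2
    rw [hXY K, pow_two]
    refine Dvd.dvd.mul_left ?_ _
    refine (mul_dvd_mul hrT hrM).trans ?_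
    rw [← h3]
    exact card_subgroup_dvd_card _
  have h2 : K' ≤ K := hK K' hKn' hrK'
  have h3 : K = K' := le_antisymm h1 h2
  subst h3
  refine ⟨rfl, ?_⟩
  rcases inf_eq_bot_or_le hMs hMn' with h | h
  · exfalso
    have h4 := card_sup_mul_card_inf M' M
    rw [h, card_bot, mul_one] at h4
    apply hq2
    rw [hXY K, pow_two]
    refine Dvd.dvd.mul_left ?_ _
    refine (mul_dvd_mul hqM' hqM).trans ?_
    rw [← h4]
    exact card_subgroup_dvd_card _
  · rcases inf_eq_bot_or_le hMs' hMn with h' | h'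
    · exfalso
      have h4 := card_sup_mul_card_inf M M'
      rw [h', card_bot, mul_one] at h4
      apply hq2
      rw [hXY K, pow_two]
      refine Dvd.dvd.mul_left ?_ _
      refine (mul_dvd_mul hqM hqM').trans ?_
      rw [← h4]
      exact card_subgroup_dvd_card _
    · rw [le_antisymm h h']

/-! ### the test -/

/-- the condition on `(k, s, t)` at `ld` -/
def okT (l : List (ℕ × ℕ)) (ld : LD) (k s t : ℕ) : Bool :=
  s % ld.r == 0 && (ld.N / ld.r) % t == 0 && k % ld.r != 0 && pc l ld.r ld.C k && nuc (divsT ld.fN) ld.r ld.N s t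

/-- the joint condition on the order `m` -/
def feas2 (l : List (ℕ × ℕ)) (ld ld' : LD) (ords : List ℕ) (m : ℕ) : Bool :=
  (ld.r :: ords).any fun s => m % s == 0 && (divsT ld.fN).any fun t => (m / s) % t == 0 &&
    okT l ld (m / s / t) s t && (s % ld'.r != 0 || okT l ld' (m / s / t) s t)

/-- the numbers for one prime, from `struct'` -/
theorem okT_of {G : Type u} [Group G] [Finite G] {l : List (ℕ × ℕ)} {n : ℕ} (hv : valid l n = true)
    (hn : Nat.card G = n) {ld : LD} (hl : Loc G ld) {H : Subgroup G}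
    {R : Subgroup H} (hR : Nat.card R = ld.r) {k s c ν t : ℕ} (e1 : Nat.card H = k * s * t)
    (e2 : Nat.card (normalizer (R : Set H)) = c * ν * t) (e3 : c ∣ Nat.card (centralizer (R : Set H))) (e4 : c ∣ k)
    (e5 : ¬ ld.r ∣ k) (e6 : ld.r ∣ ν) (e7 : ν ∣ s) (e8 : s / ν ≡ 1 [MOD ld.r])
    (e9 : ∀ p : ℕ, p.Prime → ∃ j : ℕ, p ^ j ∣ c ∧ p ^ (k.factorization p) ≡ p ^ j [MOD ld.r]) :
    okT l ld k s t = true ∧ t ∈ divsT ld.fN := by
  obtain ⟨hp, hfN, h2, hloc⟩ := hl
  have := Fact.mk hp
  set R' : Subgroup G := R.map H.subtype with hR'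
  have hR'c : Nat.card R' = ld.r := by rw [hR', card_map_of_injective H.subtype_injective, hR]
  obtain ⟨hC, hN⟩ := hloc R' hR'c
  have hNH : Nat.card (normalizer (R : Set H)) ∣ ld.N := by
    refine dvd_trans ?_ hN
    have h3 : (normalizer (R : Set H)).map H.subtype ≤ normalizer (R' : Set G) := by
      rintro _ ⟨a, ha, rfl⟩
      rw [mem_normalizer_iff]
      intro z
      constructor
      · rintro ⟨w, hw, rfl⟩
        exact ⟨_, (mem_normalizer_iff.1 ha w).1 hw, rfl⟩
      · rintro ⟨w, hw, hw'⟩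
        have h4 : a⁻¹ * w * a ∈ R := by
          have h5 := (mem_normalizer_iff.1 ha (a⁻¹ * w * a)).2 (by
            have h6 : a * (a⁻¹ * w * a) * a⁻¹ = w := by group
            rw [h6]
            exact hw)
          exact h5
        refine ⟨_, h4, ?_⟩
        have h7 : (w : G) = (a : G) * z * (a : G)⁻¹ := hw'
        show ((a⁻¹ * w * a : H) : G) = z
        push_cast
        rw [h7]
        group
    rw [← card_map_of_injective H.subtype_injective]
    exact card_dvd_of_le h3
  have hCH : Nat.card (centralizer (R : Set H)) ∣ ld.C := by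
    refine dvd_trans ?_ hC
    have h3 : (centralizer (R : Set H)).map H.subtype ≤ centralizer (R' : Set G) := by
      rintro _ ⟨a, ha, rfl⟩
      rw [mem_centralizer_iff]
      rintro _ ⟨w, hw, rfl⟩
      exact congrArg Subtype.val ((mem_centralizer_iff.1 ha) w hw)
    rw [← card_map_of_injective H.subtype_injective]
    exact card_dvd_of_le h3
  have hNpos : 0 < ld.N := prodl_pos hfN
  have hHpos : 0 < Nat.card H := Nat.card_pos
  have hkpos : k ≠ 0 := by
    rintro rfl
    rw [zero_mul, zero_mul] at e1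
    omega
  have hHn : Nat.card H ∣ n := hn ▸ card_subgroup_dvd_card H
  have hkn : k ∣ n := dvd_trans (by rw [e1]; exact ⟨s * t, by ring⟩) hHn
  have htpos : 0 < t := Nat.pos_of_ne_zero (by rintro rfl; rw [mul_zero] at e1; omega)
  have hspos : 0 < s := Nat.pos_of_ne_zero (by rintro rfl; rw [mul_zero, zero_mul] at e1; omega)
  obtain ⟨ν', hν'⟩ := e6
  have hrN : ld.N = ld.r * (ld.N / ld.r) := by
    have h3 : ld.r ∣ ld.N := by
      refine dvd_trans ?_ hNH
      rw [e2, hν']
      exact ⟨c * ν' * t, by ring⟩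
    exact (Nat.mul_div_cancel' h3).symm
  have htN : t ∣ ld.N / ld.r := by
    have h3 : ld.r * t ∣ ld.N := by
      refine dvd_trans ?_ hNH
      rw [e2, hν']
      exact ⟨c * ν', by ring⟩
    rw [hrN] at h3
    exact Nat.dvd_of_mul_dvd_mul_left hp.pos h3
  have htN' : t ∣ ld.N := htN.trans (Nat.div_dvd_of_dvd (by rw [hrN]; exact dvd_mul_right _ _))
  refine ⟨?_, mem_divsT hfN htN'⟩
  unfold okT
  rw [Bool.and_eq_true, Bool.and_eq_true, Bool.and_eq_true, Bool.and_eq_true, beq_iff_eq, beq_iff_eq, bne_iff_ne]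
  refine ⟨⟨⟨⟨Nat.mod_eq_zero_of_dvd ((Dvd.intro _ hν'.symm).trans e7), Nat.mod_eq_zero_of_dvd htN⟩,
    fun h => e5 (Nat.dvd_of_mod_eq_zero h)⟩, ?_⟩, ?_⟩
  · unfold pc
    rw [List.all_eq_true]
    intro x hx
    rw [val_le hv hkn x hx]
    obtain ⟨j, hj, hjm⟩ := e9 x.1 (valid_prime hv x hx)
    have hpp := valid_prime hv x hx
    unfold okexp
    rw [List.any_eq_true]
    have hjle : j ≤ k.factorization x.1 := (hpp.pow_dvd_iff_le_factorization hkpos).1 (hj.trans e4)
    refine ⟨j, List.mem_range.2 (by omega), ?_⟩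
    rw [Bool.and_eq_true, beq_iff_eq, beq_iff_eq]
    refine ⟨Nat.mod_eq_zero_of_dvd ((hj.trans e3).trans hCH), ?_⟩
    by_cases hpr : x.1 = ld.r
    · have h3 : k.factorization x.1 = 0 := by
        rw [hpr]
        exact Nat.factorization_eq_zero_of_not_dvd e5
      have h4 : j = 0 := by omega
      rw [h3, h4, Nat.sub_zero, pow_zero]
    · have h3 : x.1 ^ (k.factorization x.1) = x.1 ^ j * x.1 ^ (k.factorization x.1 - j) := by
        rw [← pow_add]
        congr 1
        omega
      have h4 : x.1 ^ j * x.1 ^ (k.factorization x.1 - j) ≡ x.1 ^ j * 1 [MOD ld.r] := by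
        rw [← h3, mul_one]
        exact hjm
      have h5 : Nat.gcd ld.r (x.1 ^ j) = 1 := by
        apply Nat.Coprime.pow_right
        exact (Nat.coprime_primes hp hpp).2 (Ne.symm hpr)
      exact Nat.ModEq.cancel_left_of_coprime h5 h4
  · unfold nuc
    rw [Bool.or_eq_true, List.any_eq_true]
    right
    refine ⟨ν, mem_divsT hfN (dvd_trans ?_ hNH), ?_⟩
    · rw [e2]
      exact ⟨c * t, by ring⟩
    · rw [Bool.and_eq_true, Bool.and_eq_true, Bool.and_eq_true, beq_iff_eq, beq_iff_eq, beq_iff_eq, beq_iff_eq]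
      refine ⟨⟨⟨Nat.mod_eq_zero_of_dvd ⟨ν', hν'⟩, Nat.mod_eq_zero_of_dvd ?_⟩, Nat.mod_eq_zero_of_dvd e7⟩, e8⟩
      obtain ⟨z, hz⟩ := hNH
      rw [hz, e2]
      refine ⟨c * z, ?_⟩
      apply Nat.div_eq_of_eq_mul_left htpos
      ring

/-- a subgroup of prime order -/
theorem exists_sub {H : Type u} [Group H] [Finite H] {r : ℕ} (hr : r.Prime) (h : r ∣ Nat.card H) :
    ∃ R : Subgroup H, Nat.card R = r := by
  have := Fact.mk hr
  obtain ⟨x, hx⟩ := exists_prime_orderOf_dvd_card' r h
  exact ⟨zpowers x, by rw [Nat.card_zpowers, hx]⟩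

/-- **soundness of the joint test** -/
theorem feas2_of {G : Type u} [Group G] [Finite G] {l : List (ℕ × ℕ)} {n : ℕ} (hv : valid l n = true)
    (hn : Nat.card G = n) {ords : List ℕ} (ho : Ords.{u} n ords) {ld ld' : LD} (hl : Loc G ld) (hl' : Loc G ld')
    {H : Subgroup G} (hr : ld.r ∣ Nat.card H) (hr' : ld'.r ∣ Nat.card H) : feas2 l ld ld' ords (Nat.card H) = true := by
  have hH2 : ¬ ld.r ^ 2 ∣ Nat.card H := fun h => hl.2.2.1 (h.trans (card_subgroup_dvd_card H))
  have hH2' : ¬ ld'.r ^ 2 ∣ Nat.card H := fun h => hl'.2.2.1 (h.trans (card_subgroup_dvd_card H))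
  obtain ⟨R, hR⟩ := exists_sub hl.1 hr
  obtain ⟨R', hR'⟩ := exists_sub hl'.1 hr'
  obtain ⟨K, hKn, M, c, ν, t, hK, hMn, hMs, hrM, e1, e2, e3, e4, e5, e6, e7, e8, e9, e10⟩ := struct' hl.1 hH2 R hR
  obtain ⟨K', hKn', M', c', ν', t', hK', hMn', hMs', hrM', f1, f2, f3, f4, f5, f6, f7, f8, f9, f10⟩ := struct' hl'.1 hH2' R' hR'
  obtain ⟨o1, o2⟩ := okT_of hv hn hl hR e1 e2 e3 e4 e5 e6 e7 e8 e9
  obtain ⟨o1', o2'⟩ := okT_of hv hn hl' hR' f1 f2 f3 f4 f5 f6 f7 f8 f9
  have hHpos : 0 < Nat.card H := Nat.card_pos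
  have hHn : Nat.card H ∣ n := hn ▸ card_subgroup_dvd_card H
  have hspos : 0 < Nat.card M := Nat.card_pos
  have hkpos : 0 < Nat.card K := Nat.card_pos
  have htpos : 0 < t := Nat.pos_of_ne_zero (by rintro rfl; rw [mul_zero] at e1; omega)
  have hdiv : Nat.card H / Nat.card M = Nat.card K * t := by
    apply Nat.div_eq_of_eq_mul_left hspos
    rw [e1]
    ring
  have hdiv2 : Nat.card H / Nat.card M / t = Nat.card K := by
    rw [hdiv, Nat.mul_div_cancel _ htpos]
  unfold feas2
  rw [List.any_eq_true]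
  refine ⟨Nat.card M, ?_, ?_⟩
  · rcases e10 with h | h
    · rw [h]
      exact List.mem_cons_self
    · refine List.mem_cons_of_mem _ (ho M hMs h ?_)
      exact dvd_trans (by rw [e1]; exact ⟨Nat.card K * t, by ring⟩) hHn
  · rw [Bool.and_eq_true, beq_iff_eq, List.any_eq_true]
    refine ⟨Nat.mod_eq_zero_of_dvd (by rw [e1]; exact ⟨Nat.card K * t, by ring⟩), t, o2, ?_⟩
    rw [Bool.and_eq_true, Bool.and_eq_true, beq_iff_eq, hdiv2, hdiv]
    refine ⟨⟨Nat.mod_eq_zero_of_dvd (dvd_mul_left _ _), o1⟩, ?_⟩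
    rw [Bool.or_eq_true, bne_iff_ne]
    by_cases hd : Nat.card M % ld'.r = 0
    · right
      obtain ⟨g1, g2⟩ := unique_pair hl.1 hH2 hH2' hKn hKn' hK hK' e5 f5 hMn hMs hrM hMn' hMs' hrM'
        (Nat.dvd_of_mod_eq_zero hd)
      have g3 : t = t' := by
        have h3 := e1.symm.trans f1
        rw [g1, g2] at h3
        exact Nat.eq_of_mul_eq_mul_left (Nat.mul_pos Nat.card_pos Nat.card_pos) h3
      rw [g1, g2, g3]
      exact o1'
    · exact Or.inl hd

/-! ### the interface -/

/-- `jbad` excludes the order `m` of any subgroup -/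
def jbad (l : List (ℕ × ℕ)) (loc : List LD) (ords : List ℕ) (m : ℕ) : Bool :=
  loc.any fun ld => m % ld.r == 0 && loc.any fun ld' => m % ld'.r == 0 && !(feas2 l ld ld' ords m)

theorem not_jbad {G : Type u} [Group G] {l : List (ℕ × ℕ)} {n : ℕ} {ords : List ℕ} {loc : List LD}
    (c : Ctx G l n ords loc) (H : Subgroup G) : jbad l loc ords (Nat.card H) = false := by
  have := c.fin
  unfold jbad
  rw [List.any_eq_false]
  intro ld hld h
  rw [Bool.and_eq_true, beq_iff_eq, List.any_eq_true] at h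
  obtain ⟨h1, ld', hld', h2⟩ := h
  rw [Bool.and_eq_true, beq_iff_eq, Bool.not_eq_true'] at h2
  rw [feas2_of c.val c.card c.ords (c.loc ld hld) (c.loc ld' hld') (Nat.dvd_of_mod_eq_zero h1)
    (Nat.dvd_of_mod_eq_zero h2.1)] at h2
  exact absurd h2.2 (by decide)

/-- remove impossible orders from an item of the covering argument -/
theorem prune {G : Type u} [Group G] {l : List (ℕ × ℕ)} {n : ℕ} {ords : List ℕ} {loc : List LD}
    (c : Ctx G l n ords loc) {x : CI} {A : Subgroup G} (h : x.Good A) (L : List ℕ)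
    (hL : (x.ords.all fun m => L.contains m || jbad l loc ords m) = true) : CI.Good { x with ords := L } A := by
  refine ⟨h.ne, h.dvd, h.full, fun K hAK hK => ?_⟩
  rw [List.all_eq_true] at hL
  have h1 := hL _ (h.ords K hAK hK)
  rw [Bool.or_eq_true, not_jbad c K, List.contains_iff_mem] at h1
  rcases h1 with h1 | h1
  · exact h1
  · exact absurd h1 (by decide)

end Cfsg.Agent.H970.Sep
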