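import Cfsg.Agent.H940.EngData
import Cfsg.Agent.H940.EngLoc
import Cfsg.Agent.H940.Cover
import Cfsg.Agent.H970.Sep.Joint
import Cfsg.Agent.H970.Sep.Co3Seven
import Cfsg.Agent.Schreier.McLaughlin
import Cfsg.Agent.KFacts.HS.Base

/-!
# Row `Co₃` of S5906 and S5907 (helper970)

The subgroups `McL`, `HS` and the normalizers of the Sylow subgroups for 23, 7, 3 cannot be covered by four orders.
-/

set_option autoImplicit false

namespace Cfsg.Agent.H970.Sep.RowCo3

open Subgroup Cfsg.Agent.OrdDiv Cfsg.Agent.H940 Cfsg.Agent.H940.Eng Cfsg.Agent.H940.Eng.D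
open Cfsg.Agent.H940.MaxCls Cfsg.Agent.H970.Sep

abbrev G : Type := Cfsg.Spor.Co3

theorem iso : Cfsg.Spor.IsoCo3 G := ⟨MulEquiv.refl _⟩

/-- the local data -/
def loc : List LD := [⟨7, 42, [(2, 2), (3, 2), (7, 1)]⟩, ⟨11, 22, [(2, 1), (5, 1), (11, 1)]⟩, ⟨23, 23, [(11, 1), (23, 1)]⟩]

theorem simple : IsSimpleGroup G := by
  have h := Cfsg.Agent.SporRec.Co3.Chain.isCo3_G3.1
  exact (Cfsg.Agent.SporRec.Co3.Model.equivCo3).isSimpleGroup_congr.1 h

theorem card : Nat.card G = n_co3 := Cfsg.Agent.H555.TwoSp.card_co3 iso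

theorem fin : Finite G := Nat.finite_of_card_ne_zero (by rw [card]; decide)

theorem ctx (B : Base) : Ctx G l_co3 n_co3 o_co3 loc where
  fin := fin
  simple := simple
  card := card
  val := v_co3
  nodup := nd_co3
  ords := ords_co3 B
  loc := by
    have := fin
    intro ld hld
    simp only [loc, List.mem_cons, List.not_mem_nil, or_false] at hld
    rcases hld with rfl | rfl | rfl
    · exact loc_of_eq card (by decide +kernel) (by decide +kernel) (by decide +kernel) fun R hR => by
        obtain ⟨h1, h2⟩ := Co3.cn7 iso R hR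
        rw [h1, h2]; decide
    · exact loc_of_eq card (by decide +kernel) (by decide +kernel) (by decide +kernel) fun R hR => by
        rw [Cfsg.Agent.H555.TwoSp.c11 iso R hR, Cfsg.Agent.H555.TwoSp.n11 iso R hR]; decide
    · exact loc_of_eq card (by decide +kernel) (by decide +kernel) (by decide +kernel) fun R hR => by
        rw [Cfsg.Agent.H555.TwoSp.c23 iso R hR, Cfsg.Agent.H555.TwoSp.n23 iso R hR]; decide

/-! ### the items -/

def x0 : CI := ⟨0, 898128000, [], [898128000, 1796256000, 10777536000, 21555072000]⟩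
def x1 : CI := ⟨1, 44352000, [], [44352000, 88704000, 10777536000, 21555072000]⟩
def x2 : CI := ⟨2, 253, [23], [253, 6072, 10200960, 244823040]⟩
def x3 : CI := ⟨3, 252, [7], [252, 2016, 9072, 16128, 30240, 40824, 72576, 241920, 326592, 580608, 1088640, 1512000,
  2612736, 3628800, 8709120, 12096000, 16329600, 39191040, 130636800]⟩
def x4 : CI := ⟨4, 2187, [3], [4374, 10935, 17496, 30618, 43740, 69984, 109350, 122472, 174960, 273375, 279936, 437400,
  489888, 699840, 1093500, 1119744, 1749600, 1959552, 2799360, 3849120, 4374000, 6998400, 7838208, 11197440, 17496000,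
  19595520, 27993600, 48988800, 69984000, 78382080, 279936000, 10777536000]⟩

def L0 : List ℕ := [898128000, 1796256000]
def L1 : List ℕ := [44352000, 88704000]

def y0 : CI := { x0 with ords := L0 }
def y1 : CI := { x1 with ords := L1 }

theorem cov : covB n_co3 (fun _ _ => false) 4 [y0, y1, x2, x3, x4] = true := by decide +kernel

theorem c0 : chkO l_co3 n_co3 x0.a [(2, 3), (3, 1), (23, 1)] x0.ords x0.full 60 loc o_co3 = true := by decide +kernel
theorem c1 : chkO l_co3 n_co3 x1.a [(2, 1), (3, 5), (23, 1)] x1.ords x1.full 60 loc o_co3 = true := by decide +kernel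
theorem c2 : chkO l_co3 n_co3 x2.a [(2, 10), (3, 7), (5, 3), (7, 1)] x2.ords x2.full 60 loc o_co3 = true := by
  decide +kernel
theorem c3 : chkO l_co3 n_co3 x3.a [(2, 8), (3, 5), (5, 3), (11, 1), (23, 1)] x3.ords x3.full 60 loc o_co3 = true := by
  decide +kernel
theorem c4 : chkO l_co3 n_co3 x4.a [(2, 10), (5, 3), (7, 1), (11, 1), (23, 1)] x4.ords x4.full 60 loc o_co3 = true := by
  decide +kernel

theorem p0 : (x0.ords.all fun m => L0.contains m || jbad l_co3 loc o_co3 m) = true := by decide +kernel
theorem p1 : (x1.ords.all fun m => L1.contains m || jbad l_co3 loc o_co3 m) = true := by decide +kernel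

theorem card_mcl : Nat.card (Cfsg.Spor.McL.subgroupOf Cfsg.Spor.Co3) = 898128000 := by
  have h : Cfsg.Spor.McL ≤ Cfsg.Spor.Co3 := inf_le_left
  exact (Nat.card_congr (subgroupOfEquivOfLe h).toEquiv).trans Cfsg.Agent.Schreier.McLaughlin.card_mcl

theorem card_hs : Nat.card (Cfsg.Spor.HS.subgroupOf Cfsg.Spor.Co3) = 44352000 := by
  have h : Cfsg.Spor.HS ≤ Cfsg.Spor.Co3 := inf_le_left
  exact (Nat.card_congr (subgroupOfEquivOfLe h).toEquiv).trans (Cfsg.Agent.KFacts.HS.card ⟨MulEquiv.refl _⟩)

/-- the row `Co₃` -/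
theorem five (B : Base) : Sep 5 G := by
  have c := ctx B
  have := c.fin
  have hs := c.simple
  have hc := card
  have h3p : Nat.Prime 3 := by norm_num
  have : Fact (Nat.Prime 3) := ⟨h3p⟩
  obtain ⟨R23, h23⟩ := exists_card_eq (G := G) (r := 23) (by decide +kernel) (by rw [hc]; decide +kernel)
  obtain ⟨R7, h7⟩ := exists_card_eq (G := G) (r := 7) (by decide +kernel) (by rw [hc]; decide +kernel)
  have c23 := Cfsg.Agent.H555.TwoSp.n23 iso R23 h23
  have c7 := (Co3.cn7 iso R7 h7).2
  let P : Sylow 3 G := default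
  have ne : ∀ {A : Subgroup G} {k : ℕ}, Nat.card A = k → (k != n_co3) = true → A ≠ ⊤ := by
    intro A k h1 h2 h3
    rw [h3, card_top, hc] at h1
    rw [bne_iff_ne] at h2
    exact h2 h1.symm
  have hP : Nat.card P = 2187 := by
    have h1 := P.card_eq_multiplicity
    rw [hc] at h1
    have h2 : n_co3.factorization 3 = 7 := by
      have h3 : n_co3 = 3 ^ 7 * 226688000 := by decide +kernel
      rw [h3, Nat.factorization_mul (by norm_num) (by norm_num), Finsupp.add_apply, h3p.factorization_pow,
        Finsupp.single_eq_same, Nat.factorization_eq_zero_of_not_dvd (by norm_num)]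
    rw [h2] at h1
    rw [h1]
    norm_num
  have hPn : normalizer ((P : Subgroup G) : Set G) ≠ ⊤ := by
    intro h
    have hn : (P : Subgroup G).Normal := normalizer_eq_top_iff.1 h
    rcases hn.eq_bot_or_eq_top with h1 | h1
    · have h2 : Nat.card P = 1 := by
        have h3 : Nat.card (P : Subgroup G) = 1 := by rw [h1]; exact card_bot
        exact h3
      rw [hP] at h2
      omega
    · exact ne (A := (P : Subgroup G)) hP (by decide +kernel) h1
  have g0 : y0.Good (Cfsg.Spor.McL.subgroupOf Cfsg.Spor.Co3) :=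
    prune c (c.goodD (ne card_mcl (by decide +kernel)) (x := x0) (by rw [card_mcl]; decide +kernel)
      (fun p hp => absurd hp List.not_mem_nil) _ 60 c0) L0 p0
  have g1 : y1.Good (Cfsg.Spor.HS.subgroupOf Cfsg.Spor.Co3) :=
    prune c (c.goodD (ne card_hs (by decide +kernel)) (x := x1) (by rw [card_hs]; decide +kernel)
      (fun p hp => absurd hp List.not_mem_nil) _ 60 c1) L1 p1
  have g2 : x2.Good (normalizer (R23 : Set G)) :=
    c.goodD (ne c23 (by decide +kernel)) (x := x2) (by rw [c23]; decide +kernel)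
      (fun p hp => by
        rw [List.mem_singleton.1 hp]
        exact full_of_card hc (by decide +kernel) (by decide +kernel) h23) _ 60 c2
  have g3 : x3.Good (normalizer (R7 : Set G)) :=
    c.goodD (ne c7 (by decide +kernel)) (x := x3) (by rw [c7]; decide +kernel)
      (fun p hp => by
        rw [List.mem_singleton.1 hp]
        exact full_of_card hc (by decide +kernel) (by decide +kernel) h7) _ 60 c3
  have g4 : x4.Good (normalizer ((P : Subgroup G) : Set G)) :=
    c.goodD hPn (x := x4) (by
        have h1 := card_dvd_of_le (le_normalizer (H := (P : Subgroup G)))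
        have h2 : Nat.card (P : Subgroup G) = 2187 := hP
        rw [h2] at h1
        exact h1)
      (fun p hp => by
        rw [List.mem_singleton.1 hp]
        exact full_normalizer h3p P) _ 60 c4
  let A : CI → Subgroup G := fun x => match x.id with
    | 0 => Cfsg.Spor.McL.subgroupOf Cfsg.Spor.Co3
    | 1 => Cfsg.Spor.HS.subgroupOf Cfsg.Spor.Co3
    | 2 => normalizer (R23 : Set G)
    | 3 => normalizer (R7 : Set G)
    | _ => normalizer ((P : Subgroup G) : Set G)
  refine sep_of_cover (k := 4) hc (fun _ _ => false) [y0, y1, x2, x3, x4] A ?_ ?_ cov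
  · intro x hx
    simp only [List.mem_cons, List.not_mem_nil, or_false] at hx
    rcases hx with rfl | rfl | rfl | rfl | rfl
    · exact g0
    · exact g1
    · exact g2
    · exact g3
    · exact g4
  · intro x _ y _ h
    exact absurd h (by decide)

end Cfsg.Agent.H970.Sep.RowCo3
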