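import Cfsg.Agent.H940.Struct

/-!
# The structure at a prime dividing the order once, with the subgroups (helper970)

`struct'` : the statement of `H940.Eng.struct` with the normal subgroup `K` (the largest normal `r'`-subgroup) and the simple
normal subgroup `M` of `X ⧸ K`. `unique_pair` : if a second prime divides `|M|` then `K` and `|M|` are the same for it.
The proofs of `struct_top'` and `struct'` are those of helper940.
-/

set_option autoImplicit false

namespace Cfsg.Agent.H970.Sep

open Subgroup Cfsg.Agent.H940 Cfsg.Agent.H940.Eng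

universe u

/-- the case without normal `r'`-subgroups -/
theorem struct_top' {Y : Type u} [Group Y] [Finite Y] {r : ℕ} (hr : r.Prime)
    (h2 : ¬ r ^ 2 ∣ Nat.card Y) (hno : ∀ N : Subgroup Y, N.Normal → ¬ r ∣ Nat.card N → N = ⊥)
    (R : Subgroup Y) (hR : Nat.card R = r) :
    ∃ (M : Subgroup Y) (ν t : ℕ), M.Normal ∧ IsSimpleGroup M ∧ r ∣ Nat.card M ∧ Nat.card Y = Nat.card M * t ∧
      Nat.card (normalizer (R : Set Y)) = ν * t ∧ r ∣ ν ∧ ν ∣ Nat.card M ∧ Nat.card M / ν ≡ 1 [MOD r] ∧
      (Nat.card M = r ∨ ¬ ∀ a b : M, a * b = b * a) := by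
  have := Fact.mk hr
  have hrY : r ∣ Nat.card Y := hR ▸ card_subgroup_dvd_card R
  obtain ⟨M, hMn, hMs, hrM⟩ := exists_simple_normal hr hrY h2 hno
  have hrM2 : ¬ r ^ 2 ∣ Nat.card M := fun h => h2 (h.trans (card_subgroup_dvd_card M))
  have hRidx : ¬ r ∣ R.index := by
    intro h
    apply h2
    rw [← card_mul_index R, hR, pow_two]
    exact Nat.mul_dvd_mul_left r h
  -- a Sylow subgroup of `M`
  let Q : Sylow r M := default
  have hQ : Nat.card Q = r := by
    have h1 := Q.card_eq_multiplicity
    have h3 : (Nat.card M).factorization r = 1 := by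
      refine le_antisymm ?_ ((hr.dvd_iff_one_le_factorization Nat.card_pos.ne').1 hrM)
      by_contra hlt
      push Not at hlt
      exact hrM2 ((pow_dvd_pow r hlt).trans (Nat.ordProj_dvd _ _))
    rw [h3, pow_one] at h1
    exact h1
  set Q' : Subgroup Y := (Q : Subgroup M).map M.subtype with hQ'
  have hQ'c : Nat.card Q' = r := by
    rw [hQ', card_map_of_injective M.subtype_injective]; exact hQ
  have hRM : R ≤ M := by
    have hP1 : IsPGroup r R := IsPGroup.of_card (n := 1) (by rw [hR, pow_one])
    have hP2 : IsPGroup r Q' := IsPGroup.of_card (n := 1) (by rw [hQ'c, pow_one])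
    have hQidx : ¬ r ∣ Q'.index := by
      intro h
      apply h2
      rw [← card_mul_index Q', hQ'c, pow_two]
      exact Nat.mul_dvd_mul_left r h
    obtain ⟨g, hg⟩ := MulAction.exists_smul_eq Y (hP2.toSylow hQidx) (hP1.toSylow hRidx)
    have h3 : ((g • (hP2.toSylow hQidx) : Sylow r Y) : Subgroup Y) = R := by rw [hg]; rfl
    rw [Sylow.coe_subgroup_smul] at h3
    intro x hx
    rw [← h3] at hx
    obtain ⟨a, ha, rfl⟩ := hx
    have ha' : a ∈ M := map_subtype_le _ ha
    exact hMn.conj_mem a ha' g
  -- `R` as a Sylow subgroup of `M`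
  have hRMc : Nat.card (R.subgroupOf M) = r := by
    rw [Nat.card_congr (subgroupOfEquivOfLe hRM).toEquiv, hR]
  have hRMidx : ¬ r ∣ (R.subgroupOf M).index := by
    intro h
    apply hrM2
    rw [← card_mul_index (R.subgroupOf M), hRMc, pow_two]
    exact Nat.mul_dvd_mul_left r h
  have hRMp : IsPGroup r (R.subgroupOf M) := IsPGroup.of_card (n := 1) (by rw [hRMc, pow_one])
  let P : Sylow r M := hRMp.toSylow hRMidx
  have hPR : ((P : Subgroup M).map M.subtype) = R := by
    show (R.subgroupOf M).map M.subtype = R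
    rw [subgroupOf_map_subtype, inf_eq_left.2 hRM]
  have hfr : normalizer (R : Set Y) ⊔ M = ⊤ := by
    have := Sylow.normalizer_sup_eq_top P
    rwa [hPR] at this
  set N := normalizer (R : Set Y) with hN
  have hcard : Nat.card Y * Nat.card ↥(M ⊓ N) = Nat.card M * Nat.card N := by
    rw [← card_sup_mul_card_inf M N, sup_comm, hfr, card_top]
  obtain ⟨t, ht⟩ := card_subgroup_dvd_card M
  have hMpos : 0 < Nat.card M := Nat.card_pos
  have hNt : Nat.card N = Nat.card ↥(M ⊓ N) * t := by
    rw [ht, mul_assoc] at hcard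
    have := Nat.eq_of_mul_eq_mul_left hMpos hcard
    rw [← this, mul_comm]
  have hMN : Nat.card ↥(M ⊓ N) = Nat.card (normalizer ((P : Subgroup M) : Set M)) := by
    have h1 : (normalizer ((P : Subgroup M) : Set M)).map M.subtype = M ⊓ N := by
      ext x
      rw [mem_map, mem_inf]
      constructor
      · rintro ⟨a, ha, rfl⟩
        refine ⟨a.2, ?_⟩
        rw [hN, mem_normalizer_iff]
        intro z
        constructor
        · intro hz
          have h3 := (mem_normalizer_iff.1 ha ⟨z, hRM hz⟩).1 hz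
          exact h3
        · intro hz
          have hzM : z ∈ M := by
            have h4 := hMn.conj_mem _ (hRM hz) ((a : Y)⁻¹)
            have h5 : (a : Y)⁻¹ * ((a : Y) * z * (a : Y)⁻¹) * ((a : Y)⁻¹)⁻¹ = z := by group
            have h6 : (M.subtype a) = (a : Y) := rfl
            rw [h6] at h4
            rwa [h5] at h4
          exact (mem_normalizer_iff.1 ha ⟨z, hzM⟩).2 hz
      · rintro ⟨hxM, hxN⟩
        refine ⟨⟨x, hxM⟩, ?_, rfl⟩
        rw [mem_normalizer_iff]
        intro z
        exact (mem_normalizer_iff.1 hxN (z : Y))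
    rw [← h1, card_map_of_injective M.subtype_injective]
  have hνs : Nat.card ↥(M ⊓ N) ∣ Nat.card M := card_dvd_of_le inf_le_left
  have hrν : r ∣ Nat.card ↥(M ⊓ N) := by
    rw [← hR]
    exact card_dvd_of_le (le_inf hRM le_normalizer)
  refine ⟨M, Nat.card ↥(M ⊓ N), t, hMn, hMs, hrM, ht, hNt, hrν, hνs, ?_, ?_⟩
  · have h3 : Nat.card (Sylow r M) ≡ 1 [MOD r] := card_sylow_modEq_one r M
    rw [Sylow.card_eq_index_normalizer P] at h3
    have h4 : Nat.card M / Nat.card ↥(M ⊓ N) = (normalizer ((P : Subgroup M) : Set M)).index := by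
      rw [hMN]
      apply Nat.div_eq_of_eq_mul_right Nat.card_pos
      exact (card_mul_index _).symm
    rw [h4]
    exact h3
  · by_cases hab : ∀ a b : M, a * b = b * a
    · left
      haveI : IsMulCommutative M := ⟨⟨hab⟩⟩
      let : CommGroup M := { (inferInstance : Group M) with mul_comm := hab }
      have hp : (Nat.card M).Prime := IsSimpleGroup.prime_card (α := M)
      exact ((Nat.prime_dvd_prime_iff_eq hr hp).1 hrM).symm
    · exact Or.inr hab

/-- **the structure at a prime dividing the order once** -/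
theorem struct' {X : Type u} [Group X] [Finite X] {r : ℕ} (hr : r.Prime) (h2 : ¬ r ^ 2 ∣ Nat.card X)
    (R : Subgroup X) (hR : Nat.card R = r) :
    ∃ (K : Subgroup X) (_ : K.Normal) (M : Subgroup (X ⧸ K)) (c ν t : ℕ), (∀ T : Subgroup X, T.Normal → ¬ r ∣ Nat.card T → T ≤ K) ∧
      M.Normal ∧ IsSimpleGroup M ∧ r ∣ Nat.card M ∧
      Nat.card X = Nat.card K * Nat.card M * t ∧ Nat.card (normalizer (R : Set X)) = c * ν * t ∧
      c ∣ Nat.card (centralizer (R : Set X)) ∧ c ∣ Nat.card K ∧ ¬ r ∣ Nat.card K ∧ r ∣ ν ∧ ν ∣ Nat.card M ∧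
      Nat.card M / ν ≡ 1 [MOD r] ∧
      (∀ p : ℕ, p.Prime → ∃ j : ℕ, p ^ j ∣ c ∧ p ^ ((Nat.card K).factorization p) ≡ p ^ j [MOD r]) ∧
      (Nat.card M = r ∨ ¬ ∀ a b : M, a * b = b * a) := by
  have := Fact.mk hr
  obtain ⟨K, ⟨hKn, hrK⟩, hKmax⟩ := exists_card_max (P := fun T : Subgroup X => T.Normal ∧ ¬ r ∣ Nat.card T)
    ⟨⊥, inferInstance, by rw [card_bot]; exact hr.one_lt.ne' ∘ Nat.dvd_one.1⟩
  let f : X →* X ⧸ K := QuotientGroup.mk' K
  have hf : Function.Surjective f := QuotientGroup.mk'_surjective K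
  have hker : f.ker = K := QuotientGroup.ker_mk' K
  have hRK : R ⊓ K = ⊥ := by
    have h3 : Nat.card ↥(R ⊓ K) ∣ r := hR ▸ card_dvd_of_le inf_le_left
    rcases (Nat.dvd_prime hr).1 h3 with h4 | h4
    · exact card_eq_one.1 h4
    · exact absurd (h4 ▸ card_dvd_of_le (inf_le_right : R ⊓ K ≤ K)) hrK
  have hmapcard : ∀ A : Subgroup X, Nat.card ↥(A.map f) * Nat.card ↥(A ⊓ K) = Nat.card A := by
    intro A
    have h3 := card_mul_index (f.comp A.subtype).ker
    rw [index_ker] at h3
    have h4 : Nat.card (f.comp A.subtype).ker = Nat.card ↥(A ⊓ K) := by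
      have h5 : (f.comp A.subtype).ker.map A.subtype = A ⊓ K := by
        ext x
        rw [mem_map, mem_inf]
        constructor
        · rintro ⟨a, ha, rfl⟩
          refine ⟨a.2, ?_⟩
          rw [← hker, MonoidHom.mem_ker]
          exact ha
        · rintro ⟨hxA, hxK⟩
          refine ⟨⟨x, hxA⟩, ?_, rfl⟩
          rw [← hker, MonoidHom.mem_ker] at hxK
          exact hxK
      rw [← h5, card_map_of_injective A.subtype_injective]
    have h6 : (f.comp A.subtype).range = A.map f := by
      ext y
      constructor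
      · rintro ⟨a, rfl⟩
        exact ⟨a, a.2, rfl⟩
      · rintro ⟨a, ha, rfl⟩
        exact ⟨⟨a, ha⟩, rfl⟩
    rw [h4, h6, mul_comm] at h3
    exact h3
  have hXY : Nat.card X = Nat.card K * Nat.card (X ⧸ K) := by
    rw [← index_eq_card, card_mul_index]
  have hRbar : Nat.card ↥(R.map f) = r := by
    have := hmapcard R
    rwa [hRK, card_bot, mul_one, hR] at this
  have hY2 : ¬ r ^ 2 ∣ Nat.card (X ⧸ K) := fun h => h2 (hXY ▸ (h.trans (dvd_mul_left _ _)))
  have hno : ∀ N : Subgroup (X ⧸ K), N.Normal → ¬ r ∣ Nat.card N → N = ⊥ := by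
    intro N hN hrN
    have h3 : Nat.card ↥(N.comap f) = Nat.card K * Nat.card N := MaxCls.card_comap_quot K N
    have h4 := hKmax (N.comap f) ⟨hN.comap f, by
      rw [h3]
      intro h
      rcases hr.dvd_mul.1 h with h5 | h5
      · exact hrK h5
      · exact hrN h5⟩
    rw [h3] at h4
    have h5 : 0 < Nat.card K := Nat.card_pos
    have h6 : 0 < Nat.card N := Nat.card_pos
    have h7 : Nat.card N ≤ 1 := by
      by_contra hlt
      push Not at hlt
      nlinarith
    exact card_eq_one.1 (le_antisymm h7 h6)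
  obtain ⟨M, ν, t, m1, m2, m3, e1, e2, e3, e4, e5, e6⟩ := struct_top' hr hY2 hno (R.map f) hRbar
  set N := normalizer (R : Set X) with hN
  -- the normalizer in the quotient
  have hNbar : normalizer ((R.map f : Subgroup (X ⧸ K)) : Set (X ⧸ K)) = N.map f := by
    apply le_antisymm
    · intro y hy
      obtain ⟨x, rfl⟩ := hf y
      rw [← conj_eq_iff] at hy
      set R' := R.map (MulAut.conj x).toMonoidHom with hR'
      have hR'c : Nat.card R' = r := by rw [hR', card_map_of_injective (MulAut.conj x).injective, hR]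
      -- `R'` and `R` are Sylow subgroups of `L = K R`
      have hR'f : R'.map f = R.map f := by
        rw [← hy, hR', map_map, map_map]
        congr 1
      set L := K ⊔ R with hL
      have hRL : R ≤ L := le_sup_right
      have hR'L : R' ≤ L := by
        intro z hz
        have h3 : f z ∈ R.map f := by rw [← hR'f]; exact ⟨z, hz, rfl⟩
        obtain ⟨w, hw, hw'⟩ := h3
        have h4 : z * w⁻¹ ∈ K := by
          rw [← hker, MonoidHom.mem_ker, map_mul, map_inv, hw', mul_inv_cancel]
        have h5 : z = (z * w⁻¹) * w := by group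
        rw [h5]
        exact mul_mem (mem_sup_left h4) (mem_sup_right hw)
      have hL2 : ¬ r ^ 2 ∣ Nat.card L := fun h => h2 (h.trans (card_subgroup_dvd_card _))
      have hRLc : Nat.card (R'.subgroupOf L) = r := by
        rw [Nat.card_congr (subgroupOfEquivOfLe hR'L).toEquiv, hR'c]
      have hRLc2 : Nat.card (R.subgroupOf L) = r := by
        rw [Nat.card_congr (subgroupOfEquivOfLe hRL).toEquiv, hR]
      obtain ⟨l, hl⟩ := exists_conj_le hr hL2 hRLc (L := R.subgroupOf L) (by rw [hRLc2])
      have hl' : R'.map (MulAut.conj (l : X)).toMonoidHom = R := by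
        apply eq_of_le_of_card_ge
        · rintro _ ⟨z, hz, rfl⟩
          exact hl ⟨⟨z, hR'L hz⟩, hz, rfl⟩
        · rw [card_map_of_injective (MulAut.conj (l : X)).injective, hR'c, hR]
      have hlx : (l : X) * x ∈ N := by
        rw [hN, ← conj_eq_iff]
        have h7 : R.map (MulAut.conj ((l : X) * x)).toMonoidHom =
            (R.map (MulAut.conj x).toMonoidHom).map (MulAut.conj (l : X)).toMonoidHom := by
          rw [map_map]
          congr 1
          ext z
          simp
        rw [h7]
        exact hl'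
      have hlf : f (l : X) ∈ N.map f := by
        have hlL : (l : X) ∈ K ⊔ R := l.2
        rw [mem_sup_of_normal_left] at hlL
        obtain ⟨a, ha, b, hb, hab⟩ := hlL
        refine ⟨b, le_normalizer hb, ?_⟩
        rw [← hab, map_mul]
        have : f a = 1 := by rw [← MonoidHom.mem_ker, hker]; exact ha
        rw [this, one_mul]
      have h8 : f x = (f (l : X))⁻¹ * f ((l : X) * x) := by rw [map_mul]; group
      rw [h8]
      exact mul_mem (inv_mem hlf) ⟨_, hlx, rfl⟩
    · rintro _ ⟨x, hx, rfl⟩
      rw [← conj_eq_iff]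
      have h3 : R.map (MulAut.conj x).toMonoidHom = R := conj_eq_iff.2 hx
      conv_rhs => rw [← h3]
      rw [map_map, map_map]
      congr 1
  have hNc : Nat.card N = Nat.card ↥(N ⊓ K) * ν * t := by
    rw [← hmapcard N, ← hNbar, e2]
    ring
  refine ⟨K, hKn, M, Nat.card ↥(N ⊓ K), ν, t, ?_, m1, m2, m3, by rw [hXY, e1, mul_assoc], hNc, ?_,
    card_dvd_of_le inf_le_right, hrK, e3, e4, e5, ?_, e6⟩
  · intro T hT hrT
    have h3 := hKmax (K ⊔ T) ⟨inferInstance, not_dvd_card_sup hr K T hrK hrT⟩
    have h4 : K = K ⊔ T := eq_of_le_of_card_ge le_sup_left h3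
    rw [h4]
    exact le_sup_right
  · apply card_dvd_of_le
    intro x hx
    have hxN : x ∈ N := (mem_inf.1 hx).1
    have hxK : x ∈ K := (mem_inf.1 hx).2
    rw [mem_centralizer_iff]
    intro a ha
    have h3 : x * a * x⁻¹ * a⁻¹ ∈ R ⊓ K := by
      refine mem_inf.2 ⟨mul_mem ((mem_normalizer_iff.1 hxN a).1 ha) (inv_mem (show a ∈ R from ha)), ?_⟩
      have h4 : a * x⁻¹ * a⁻¹ ∈ K := hKn.conj_mem _ (inv_mem hxK) a
      have h5 : x * a * x⁻¹ * a⁻¹ = x * (a * x⁻¹ * a⁻¹) := by group
      rw [h5]
      exact mul_mem hxK h4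
    rw [hRK, mem_bot] at h3
    have h6 : x * a = a * x := by
      have := congrArg (· * a * x) h3
      simpa [mul_assoc] using this
    exact h6.symm
  · intro p hp
    haveI := Fact.mk hp
    by_cases hpr : p = r
    · subst hpr
      refine ⟨0, by simp, ?_⟩
      rw [Nat.factorization_eq_zero_of_not_dvd hrK]
    · -- an `R`-invariant Sylow `p`-subgroup of `K`
      let Q0 : Sylow p K := default
      set Q0' : Subgroup X := (Q0 : Subgroup K).map K.subtype with hQ0'
      have hQ0K : Q0' ≤ K := map_subtype_le _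
      have hfr : normalizer (Q0' : Set X) ⊔ K = ⊤ := Sylow.normalizer_sup_eq_top Q0
      have hrN : r ∣ Nat.card (normalizer (Q0' : Set X)) := by
        have h3 := card_sup_mul_card_inf K (normalizer (Q0' : Set X))
        rw [sup_comm, hfr, card_top] at h3
        have h4 : r ∣ Nat.card K * Nat.card (normalizer (Q0' : Set X)) := by
          rw [← h3]
          exact Dvd.dvd.mul_right (hR ▸ card_subgroup_dvd_card R) _
        exact (hr.dvd_mul.1 h4).resolve_left hrK
      obtain ⟨g, hg⟩ := exists_conj_le hr h2 hR hrN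
      -- `Q = Q0' conjugated by g⁻¹` is normalized by `R`
      set Q : Subgroup X := Q0'.map (MulAut.conj g⁻¹).toMonoidHom with hQ
      have hQK : Q ≤ K := by
        rintro _ ⟨z, hz, rfl⟩
        exact hKn.conj_mem _ (hQ0K hz) g⁻¹
      have hRQ : R ≤ normalizer (Q : Set X) := by
        intro a ha
        have h3 : g * a * g⁻¹ ∈ normalizer (Q0' : Set X) := hg ⟨a, ha, rfl⟩
        rw [← conj_eq_iff] at h3 ⊢
        rw [hQ, map_map]
        conv_rhs => rw [← h3, map_map]
        congr 1
        ext z
        simp [mul_assoc]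
      have hQc : Nat.card Q = p ^ ((Nat.card K).factorization p) := by
        rw [hQ, card_map_of_injective (MulAut.conj g⁻¹).injective, hQ0', card_map_of_injective K.subtype_injective]
        exact Q0.card_eq_multiplicity
      -- the action of `R` on `Q`
      let : MulAction R Q := {
        smul := fun a z => ⟨(a : X) * z * (a : X)⁻¹, (mem_normalizer_iff.1 (hRQ a.2) z).1 z.2⟩
        one_smul := fun z => Subtype.ext (by show (1 : X) * z * (1 : X)⁻¹ = z; simp)
        mul_smul := fun a b z => Subtype.ext (by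
          show ((a : X) * b) * z * ((a : X) * b)⁻¹ = a * (b * z * (b : X)⁻¹) * (a : X)⁻¹
          group) }
      have hsm : ∀ (a : R) (z : Q), ((a • z : Q) : X) = (a : X) * z * (a : X)⁻¹ := fun _ _ => rfl
      have hRp : IsPGroup r R := IsPGroup.of_card (n := 1) (by rw [hR, pow_one])
      have hmod : Nat.card Q ≡ Nat.card (MulAction.fixedPoints R Q) [MOD r] := hRp.card_modEq_card_fixedPoints Q
      -- the fixed points
      set D : Subgroup X := Q ⊓ centralizer (R : Set X) with hD
      have hDc : Nat.card (MulAction.fixedPoints R Q) = Nat.card D := by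
        refine Nat.card_congr ?_
        refine ⟨fun z => ⟨((z : Q) : X), mem_inf.2 ⟨(z : Q).2, ?_⟩⟩, fun z => ⟨⟨(z : X), (mem_inf.1 z.2).1⟩, ?_⟩, fun z => rfl, fun z => rfl⟩
        · show ((z : Q) : X) ∈ centralizer (R : Set X)
          rw [mem_centralizer_iff]
          intro a ha
          have h3 := congrArg Subtype.val (z.2 ⟨a, ha⟩)
          rw [hsm] at h3
          have h4 : a * ((z : Q) : X) * a⁻¹ = ((z : Q) : X) := h3
          calc a * ((z : Q) : X) = a * ((z : Q) : X) * a⁻¹ * a := by group
            _ = ((z : Q) : X) * a := by rw [h4]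
        · intro a
          apply Subtype.ext
          rw [hsm]
          have h3 := (mem_centralizer_iff.1 (mem_inf.1 z.2).2) (a : X) a.2
          show (a : X) * (z : X) * (a : X)⁻¹ = z
          rw [h3]
          group
      have hDp : IsPGroup p D := by
        have h3 : IsPGroup p Q := IsPGroup.of_card hQc
        exact h3.to_le inf_le_left
      obtain ⟨j, hj⟩ := IsPGroup.iff_card.1 hDp
      refine ⟨j, ?_, ?_⟩
      · rw [← hj]
        apply card_dvd_of_le
        intro z hz
        have hzQ : z ∈ Q := (mem_inf.1 hz).1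
        have hzC : z ∈ centralizer (R : Set X) := (mem_inf.1 hz).2
        refine mem_inf.2 ⟨?_, hQK hzQ⟩
        rw [hN, mem_normalizer_iff]
        intro a
        have h3 : ∀ b ∈ R, z * b * z⁻¹ = b := by
          intro b hb
          rw [← (mem_centralizer_iff.1 hzC) b hb]
          group
        constructor
        · intro ha
          rw [h3 a ha]
          exact ha
        · intro ha
          have h4 := h3 _ ha
          have h5 : z * a * z⁻¹ = a := by
            have h6 : z * (z * a * z⁻¹) * z⁻¹ = z * a * z⁻¹ := h4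
            have h7 : z⁻¹ * (z * (z * a * z⁻¹) * z⁻¹) * z = z⁻¹ * (z * a * z⁻¹) * z := by rw [h6]
            have h8 : z⁻¹ * (z * (z * a * z⁻¹) * z⁻¹) * z = z * a * z⁻¹ := by group
            have h9 : z⁻¹ * (z * a * z⁻¹) * z = a := by group
            rw [h8, h9] at h7
            exact h7
          rw [← h5]
          exact ha
      · rw [← hQc, ← hj, ← hDc]
        exact hmod


end Cfsg.Agent.H970.Sep
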